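import Mathlib
import Cfsg.Agent.Lib.PGroup.RankTwo3
import Cfsg.Agent.Lib.MaxCl.Basic
import Cfsg.Agent.Lib.Metacyc.Basic
import Cfsg.Agent.Lib.Transfer.Yoshida

/-! `p`-groups of rank two, `p` odd: `γ₃(S) ≤ Φ(T)` for maximal subgroups `T`; the normalizer of
a Sylow `p`-subgroup of rank two controls transfer. -/

set_option autoImplicit false

namespace CfsgLib.Rk2

open Cfsg Subgroup CfsgLib.PGroup CfsgLib.MaxCl CfsgLib.RegP
open scoped commutatorElement

universe u

variable {S : Type u} [Group S] [Finite S] {p : ℕ} [hp : Fact p.Prime]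

/-- Blackburn's theorem in structural form -/
theorem trichotomy (h2 : p ≠ 2) {n : ℕ} (hG : Nat.card S = p ^ n) (hrk : PRankLE p 2 S) :
    IsMetacyclic S ∨ (∃ (V Z : Subgroup S) (d : S) (a : ℕ), RankTwoAb p V Z (centralizer V) d a ∧
      (centralizer (V : Set S)).index = p ∧ n = a + 3 ∧ ∀ x : S, x ^ p ∈ zpowers (d ^ p)) ∨
      (p = 3 ∧ MC S p n) := by
  have hP := IsPGroup.of_card hG
  by_cases hcyc : IsCyclic S
  · exact Or.inl ⟨⊥, inferInstance, inferInstance, QuotientGroup.quotientBot.isCyclic.2 hcyc⟩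
  obtain ⟨V, hVn, hV, hc⟩ := exists_normal_rank_two h2 hP hcyc
  obtain ⟨Z, h⟩ := exists_rankTwo h2 hP hrk hV hc
  have hD : (centralizer (V : Set S)).index ≤ p := by
    simpa using index_centralizer_le_of_normal hP 2 V hc
  set D := centralizer (V : Set S)
  have h1 := h.index_mho_le
  by_cases hm : powerClosure p 1 D < powerClosure p 1 ⊤ ∨ D = ⊤
  · refine Or.inl (isMetacyclic_of_index_mho_le h2 hP ?_)
    rcases hm with hm | hm
    · have h3 := relIndex_mul_index hm.le
      have h4 := prime_le_relIndex_of_not_le hP hm.not_ge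
      rw [← relIndex_mul_index (powerClosure_le p 1 D)] at h3
      refine Nat.le_of_mul_le_mul_left ((Nat.mul_le_mul_right _ h4).trans (h3.trans_le ?_)) hp.out.pos
      rw [mul_comm]
      exact Nat.mul_le_mul hD h1
    · rwa [hm, relIndex_top_right] at h1
  rw [not_or, lt_iff_le_not_ge, not_and, not_not] at hm
  have h3 : ∀ x, x ^ p ∈ powerClosure p 1 D := fun x =>
    hm.1 (powerClosure_mono _ _ le_top) (pow_mem_mho (mem_top x))
  have hDi : D.index = p := le_antisymm hD (by
    simpa using prime_le_relIndex_of_not_le hP (K := ⊤) fun h => hm.2 (top_le_iff.1 h))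
  have hn : 3 ≤ n := by
    have h4 := D.card_mul_index
    have h5 := card_le_of_le h.VD
    rw [hDi, hG] at h4
    rw [← Nat.pow_le_pow_iff_right hp.out.one_lt, ← h4, pow_succ, ← hc]
    exact Nat.mul_le_mul_right _ h5
  obtain ⟨x, -, hx⟩ := SetLike.exists_of_lt (lt_top_iff_ne_top.2 hm.2)
  by_cases hW : ∀ w ∈ D, w ^ p ∈ V → w ^ p ∈ Z
  · obtain ⟨d, a, h4, h5, h6⟩ := h.exists_gen hW
    have h' : RankTwoAb p V Z D d a := ⟨h, hW, h4, h5, h6⟩
    refine Or.inr (Or.inl ⟨V, Z, d, a, h', hDi, ?_, fun y => mho_le_iff.2 (fun e he => ?_) (h3 y)⟩)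
    · have h7 := D.card_mul_index
      rw [h'.cardD, hDi, hG, ← pow_succ] at h7
      exact (Nat.pow_right_injective hp.out.two_le h7).symm
    · obtain ⟨u, hu, i, rfl⟩ := h'.exists_eq he
      rw [(h.comm u hu _ (pow_mem h'.mem i)).mul_pow, h.pow_eq_one u hu, one_mul, ← pow_mul,
        mul_comm, pow_mul]
      exact pow_mem (mem_zpowers _) i
  push Not at hW
  obtain ⟨w, hw, hwp, hwZ⟩ := hW
  obtain ⟨y, hy, hyx⟩ : ∃ y ∈ V, ¬ Commute y x := by
    by_contra h5
    push Not at h5
    exact hx h5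
  obtain ⟨h4, h5⟩ := h.three_and_card_centralizer_le hD h.omega (fun e he c hc hcp hec => by
    refine h.omega _ (mul_mem (inv_mem hc) he) ?_
    rw [h.mul_pow (inv_mem hc) he (hec ▸ hcp), hec, inv_pow, inv_mul_cancel]) hw hwp
    (fun h6 => hwZ (h.mem_Z_of_commute hy hyx hwp h6))
    (mem_centralizer_singleton_iff.1 ((mho_le_iff.2 fun e he => mem_centralizer_singleton_iff.2
      (h.commute_pow he hw hwp).symm : _ ≤ centralizer {w}) (h3 x))).symm
  exact Or.inr (Or.inr ⟨h4, hn, hG, maximal_class_of_card_centralizer_le (by omega) hG h5⟩)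

section Ab
variable {V Z : Subgroup S} {d : S} {a : ℕ} (h : RankTwoAb p V Z (centralizer V) d a)
  (hD : (centralizer (V : Set S)).index = p)
include h hD

theorem ab_L1 : L S 1 ≤ V := by
  have := h.normalV
  have := h.normalD
  have : Fact ((centralizer (V : Set S)).index).Prime := hD ▸ hp
  refine commutator_le_of_cyclic_quotient h.VD (fun c hc g => ?_)
    (isCyclic_of_prime_card (p := (centralizer (V : Set S)).index) rfl)
  have := h.cj_mem_V (x := g⁻¹) (hD ▸ pow_index_mem _ _) (inv_mem hc)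
  rwa [cj_eq_commutator, inv_inv, inv_inv] at this

theorem ab_L2 : L S 2 ≤ Z := commutator_le.2 fun g hg s _ => by
  have := h.cj_mem_Z (inv_mem (ab_L1 h hD hg)) s⁻¹
  rwa [cj_eq_commutator, inv_inv, inv_inv] at this

end Ab

omit [Finite S] in
theorem eq_of_le_of_index {T M : Subgroup S} (h : T ≤ M) (hT : T.index = p) (hM : M ≠ ⊤) : M ≤ T := by
  have h1 := relIndex_mul_index h
  rw [hT] at h1
  rcases (Nat.dvd_prime hp.out).1 (Dvd.intro_left _ h1) with h2 | h2
  · exact absurd (index_eq_one.1 h2) hM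
  · rw [h2] at h1
    exact relIndex_eq_one.1 (Nat.eq_of_mul_eq_mul_right hp.out.pos (h1.trans (one_mul p).symm))

theorem L2_le (h2 : p ≠ 2) (hP : IsPGroup p S) (hrk : PRankLE p 2 S) {T D : Subgroup S} [T.Normal]
    (hT : T.index = p) (h1 : ∀ t ∈ T, t ^ p ∈ D) (hc : ∀ a ∈ T, ∀ b ∈ T, ⁅a, b⁆ ∈ D) :
    L S 2 ≤ D := by
  obtain ⟨n, hG⟩ := hP.exists_card_eq
  have hL1 : L S 1 ≤ T := by
    have : Fact T.index.Prime := hT ▸ hp
    exact commutator_le_of_cyclic_quotient le_rfl (fun c hc g => by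
      rw [commutatorElement_def, mul_assoc, mul_assoc, ← mul_assoc g]
      exact mul_mem hc (‹T.Normal›.conj_mem _ (inv_mem hc) g))
      (isCyclic_of_prime_card (p := T.index) rfl)
  rcases trichotomy h2 hG hrk with hm | ⟨V, Z, d, a, h, hD, rfl, -⟩ | ⟨rfl, h⟩
  · obtain ⟨a, b, h⟩ := Metacyc.exists_mc hp.out h2 hP hm
    have h3 : zpowers (⁅a, b⁆ ^ p) ≤ D := by
      rw [← hT, ← h.commutator_subgroup T]
      exact commutator_le.2 hc
    refine commutator_le.2 fun g hg s _ => h3 ?_
    have hg' : g ∈ zpowers ⁅a, b⁆ := h.commutator_eq ▸ hg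
    by_cases h4 : ⁅a, b⁆ = 1
    · rw [h4, zpowers_one_eq_bot, mem_bot] at hg'
      rw [hg', commutatorElement_one_left]; exact one_mem _
    have := h.cyc.normal_zpowers_comm_pow a b p
    have : (zpowers ⁅a, b⁆).Normal := h.commutator_eq ▸ inferInstance
    refine commutator_mem_of_card_eq_mul hP (zpowers_le.2 (pow_mem (mem_zpowers _) p)) ?_ hg' s
    obtain ⟨k, hk⟩ := h.cyc.exists_orderOf ⁅a, b⁆
    have h5 : p ∣ orderOf ⁅a, b⁆ := hk ▸ dvd_pow_self p (by
      rintro rfl
      exact h4 (orderOf_eq_one_iff.1 hk))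
    rw [Nat.card_zpowers, Nat.card_zpowers, orderOf_pow_of_dvd hp.out.ne_zero h5,
      Nat.div_mul_cancel h5]
  · refine commutator_le.2 fun g hg s _ => ?_
    by_cases hgZ : g ∈ Z
    · rw [commutatorElement_eq_one_iff_commute.2 (h.commZ hgZ s)]; exact one_mem _
    have hs : ⁅g, s⁆ ∈ Z := ab_L2 h hD (comm_mem_L hg s)
    by_cases hTD : T ≤ centralizer (V : Set S)
    · rcases a with _ | a
      · rw [mem_bot.1 ((class_two_of_card_le hP hG.le).le (commutator_mem_commutator hg (mem_top s)))]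
        exact one_mem _
      · obtain ⟨i, hi⟩ := h.exists_pow_eq hs
        rw [← hi, pow_succ, pow_mul]
        exact pow_mem (h1 _ (eq_of_le_of_index hTD hT (fun e => hp.out.ne_one (by
          rw [← hD, e, index_top])) (pow_mem h.mem _))) i
    · obtain ⟨t, ht, htD⟩ := SetLike.not_le_iff_exists.1 hTD
      obtain ⟨y, hy, hyt⟩ : ∃ y ∈ V, ¬ Commute y t := by
        by_contra h5
        push Not at h5
        exact htD h5
      obtain ⟨i, hi⟩ := exists_pow_eq_of_card_prime h.cardZ (ab_L2 h hD (comm_mem_L hg t))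
        (fun e => hgZ (h.mem_Z_of_commute hy hyt (ab_L1 h hD hg)
          (commutatorElement_eq_one_iff_commute.1 e))) hs
      exact hi ▸ pow_mem (hc g (hL1 hg) t ht) i
  · have key : ∀ i, 2 ≤ i → i + 2 ≤ n → ∃ g ∈ L S i, g ∉ L S (i + 1) ∧ g ∈ D := by
      intro i hi hn
      by_cases hK : T ≤ K S 1
      · have hK' := eq_of_le_of_index hK hT (h.K_ne_top (by omega))
        rcases hi.eq_or_lt with rfl | hi
        · suffices ∃ u ∈ T, u ^ 3 ∉ L S 3 from by
            obtain ⟨u, hu, hu'⟩ := this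
            exact ⟨_, h.pow_mem_pred (by omega) u, hu', h1 u hu⟩
          obtain ⟨y, hy, hy'⟩ := h.exists_mem_K (i := 1) le_rfl
          by_cases h5 : 5 ≤ n
          · exact ⟨y, hK' hy, h.pow_not_mem_K h5 hy hy'⟩
          obtain rfl : n = 4 := by omega
          by_contra h6
          push Not at h6
          rw [h.L_eq_bot (i := 3) le_rfl] at h6
          have h7 : K S 1 ≤ L S 1 ⊔ zpowers y := h.le_of_between le_sup_left
            (mem_sup_right (mem_zpowers y)) hy' (sup_le (L_le_K 1) (zpowers_le.2 hy))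
            (h.K_ne_top le_rfl)
          have h8 : ∀ g ∈ L S 1, ∀ u ∈ K S 1, g * u = u * g := fun g hg u hu =>
            commutatorElement_eq_one_iff_mul_comm.1
              (mem_bot.1 (h.L_eq_bot (i := 3) le_rfl ▸ mem_K.1 hu g hg))
          have h9 : K S 1 ≤ centralizer (K S 1 : Set S) := h7.trans (sup_le
            (fun g hg u hu => (h8 g hg u hu).symm) (zpowers_le.2 fun u hu =>
              mem_centralizer_singleton_iff.1 ((h7.trans (sup_le (fun g hg =>
                mem_centralizer_singleton_iff.2 (h8 g hg y hy))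
                (zpowers_le.2 (mem_centralizer_singleton_iff.2 rfl)))) hu)))
          have h10 := hrk T (le_centralizer_iff_isMulCommutative.1 fun u hu v hv =>
            h9 (hK hu) v (hK hv)) h6
          have h11 := T.card_mul_index
          rw [hT, hG] at h11
          omega
        · obtain ⟨j, rfl⟩ : ∃ j, i = j + 2 := ⟨i - 2, by omega⟩
          obtain ⟨g, hg, hg'⟩ := h.exists_not_mem (i := j) (by omega) (by omega)
          exact ⟨_, h.pow_mem (by omega) hg, h.pow_not_mem (by omega) (by omega) hg hg',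
            h1 g (hL1 (L_anti (by omega) hg))⟩
      · obtain ⟨s, hs, hs'⟩ := SetLike.not_le_iff_exists.1 hK
        obtain ⟨j, rfl⟩ : ∃ j, i = j + 1 := ⟨i - 1, by omega⟩
        obtain ⟨g, hg, hg'⟩ := h.exists_not_mem (i := j) (by omega) (by omega)
        refine ⟨_, comm_mem_L hg s, h.comm_not_mem (by omega) ?_ hg hg',
          hc g (hL1 (L_anti (by omega) hg)) s hs⟩
        by_cases h5 : j = 1
        · rwa [h5]
        · rwa [h.K_eq (by omega) (by omega) (by omega)]
    have main : ∀ k, 2 + k + 1 ≤ n → L S (n - 1 - k) ≤ D := by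
      intro k
      induction k with
      | zero => intro _; rw [h.L_eq_bot (by omega)]; exact bot_le
      | succ k ih =>
        intro hk
        obtain ⟨g, hg, hg', hgD⟩ := key (n - 1 - (k + 1)) (by omega) (by omega)
        exact h.le_of_mem (by omega) (by
          rw [show n - 1 - (k + 1) + 1 = n - 1 - k by omega]; exact ih (by omega)) hg hg' hgD
    have := h.three
    simpa [show n - 1 - (n - 3) = 2 by omega] using main (n - 3) (by omega)

/-- the normalizer of a Sylow `p`-subgroup of rank at most two controls transfer -/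
theorem transfer_control {G : Type u} [Group G] [Finite G] (h2 : p ≠ 2) (P : Sylow p G)
    (hrk : PRankLE p 2 P) : (P : Subgroup G) ⊓ commutator G = (P : Subgroup G) ⊓
      ⁅normalizer ((P : Subgroup G) : Set G), normalizer ((P : Subgroup G) : Set G)⁆ := by
  by_contra hne
  obtain ⟨T, ψ, x, z, hT, hN, hi, hx, hz, hψ, h⟩ := Transfer.yoshida_core P (W := P)
    ⟨le_rfl, fun g hg => eq_of_le_of_card_ge hg (card_map_of_injective (MulAut.conj g).injective).ge⟩ hne
  let f : T →* Multiplicative (ZMod p) := MonoidHom.mk' (fun t => ψ t) fun a b => hψ a a.2 b b.2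
  have : (T.subgroupOf P).Normal := (normal_subgroupOf_iff_le_normalizer hT).2 hN
  have key := L2_le h2 P.isPGroup' hrk (T := T.subgroupOf P) (D := (f.ker.map T.subtype).subgroupOf P)
    hi (fun t ht => ⟨⟨t, ht⟩ ^ p, by
      rw [SetLike.mem_coe, MonoidHom.mem_ker, map_pow]
      exact Multiplicative.toAdd.injective (by simp), rfl⟩)
    (fun a ha b hb => ⟨⁅(⟨a, ha⟩ : T), ⟨b, hb⟩⁆, by
      rw [SetLike.mem_coe, MonoidHom.mem_ker, map_commutatorElement,
        commutatorElement_eq_one_iff_mul_comm, mul_comm], rfl⟩)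
  have hit : ∀ n, (fun y : P => y⁻¹ * (⟨z, hz⟩ : P)⁻¹ * y * ⟨z, hz⟩)^[n] ⟨x, hT hx⟩ ∈ L P n := by
    intro n
    induction n with
    | zero => exact mem_top _
    | succ n ih =>
      rw [Function.iterate_succ_apply']
      simpa [commutatorElement_def] using comm_mem_L (inv_mem ih) (⟨z, hz⟩ : P)⁻¹
  obtain ⟨t, ht, e⟩ := key (L_anti (by have := hp.out.two_le; omega) (hit (p - 1)))
  have e2 := e.trans (Transfer.map_iter_comm (P : Subgroup G).subtype ⟨x, hT hx⟩ ⟨z, hz⟩ (p - 1))
  simp only [coe_subtype] at e2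
  exact h (e2 ▸ ht)

end CfsgLib.Rk2
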