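import Mathlib
import Cfsg.Agent.Lib.Rk2.Wr
import Cfsg.Agent.Lib.Transfer.Focal
import Cfsg.Agent.S1447

/-! Coprime action without trivial quotient on a `p`-group of rank two, fixing a central element. -/

set_option autoImplicit false

namespace CfsgLib.Rk2

open Cfsg Subgroup CfsgLib.PGroup CfsgLib.MaxCl
open scoped commutatorElement

universe u

variable {S : Type u} [Group S] [Finite S] {E : Type*} [Group E] [Finite E]

structure Act (p : ℕ) (ρ : E →* MulAut S) (x : S) : Prop where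
  pg : IsPGroup p S
  cop : ¬ p ∣ Nat.card E
  gen : ∀ K : Subgroup S, (∀ e u, ρ e u * u⁻¹ ∈ K) → K = ⊤
  ne : x ≠ 1
  pow : x ^ p = 1
  cen : x ∈ center S
  fix : ∀ e, ρ e x = x

variable {p : ℕ} [hp : Fact p.Prime] {ρ : E →* MulAut S} {x : S}

omit [Finite S] in
theorem of_eq_iff {a b : S} : Abelianization.of a = Abelianization.of b ↔ a⁻¹ * b ∈ L S 1 :=
  QuotientGroup.eq

omit [Finite S] in
theorem of_eq_one {a : S} : Abelianization.of a = 1 ↔ a ∈ L S 1 := QuotientGroup.eq_one_iff a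

theorem Act.fp (h : Act p ρ x) {u : S} (hu : ∀ e, Abelianization.of (ρ e u) = Abelianization.of u) :
    u ∈ L S 1 := by
  have := Fintype.ofFinite E
  let ν : S →* Abelianization S := ∏ e, Abelianization.of.comp (ρ e).toMonoidHom
  have hν : ∀ v, ν v = ∏ e, Abelianization.of (ρ e v) := fun v => MonoidHom.finsetProd_apply _ _ _
  have h1 := (h.gen ν.ker fun e v => by
    rw [MonoidHom.mem_ker, map_mul, map_inv, mul_inv_eq_one, hν, hν,
      ← Equiv.prod_comp (Equiv.mulRight e) fun e => Abelianization.of (ρ e v)]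
    simp).ge (mem_top u)
  rw [MonoidHom.mem_ker, hν] at h1
  simp only [hu, Finset.prod_const, Finset.card_univ, ← Nat.card_eq_fintype_card, ← map_pow] at h1
  exact mem_of_pow_mem_of_not_dvd h.pg h.cop (of_eq_one.1 h1)

omit [Finite E] in
theorem Act.cyc (h : Act p ρ x) {c : S} (hx : x ∈ zpowers c) (e : E) (hc : ρ e c ∈ zpowers c) :
    ρ e c = c := by
  obtain ⟨r, hr⟩ := mem_powers_iff_mem_zpowers.2 hc
  obtain ⟨j, rfl⟩ := mem_powers_iff_mem_zpowers.2 hx
  simp only at hr h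
  have h1 : r ≡ 1 [MOD p] := by
    have h2 := h.fix e
    rw [map_pow, ← hr, ← pow_mul, mul_comm, pow_mul, ← pow_one (c ^ j), ← pow_mul, one_mul,
      pow_eq_pow_iff_modEq, orderOf_eq_prime h.pow h.ne] at h2
    exact h2
  have h2 : ∀ k, (ρ e)^[k] c = c ^ r ^ k := fun k => by
    induction k with
    | zero => simp
    | succ k ih => rw [Function.iterate_succ_apply', ih, map_pow, ← hr, ← pow_mul, pow_succ']
  obtain ⟨k, hk⟩ := h.pg c
  have h3 : Function.IsPeriodicPt (ρ e) (p ^ k) c := by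
    rw [Function.IsPeriodicPt, Function.IsFixedPt, h2, ← pow_one c, ← pow_mul, one_mul]
    refine pow_eq_pow_of_modEq (Nat.ModEq.of_dvd (pow_dvd_pow p k.le_succ) ?_) hk
    have := dvd_sub_pow_of_dvd_sub (R := ℤ) h1.dvd k
    rw [Nat.modEq_iff_dvd]
    simpa using this
  have h4 : Function.IsPeriodicPt (ρ e) (Nat.card E) c := by
    have h6 : ∀ m, (ρ e)^[m] c = ρ (e ^ m) c := fun m => by
      induction m with
      | zero => simp
      | succ m ih => rw [Function.iterate_succ_apply', ih, pow_succ', map_mul, MulAut.mul_apply]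
    rw [Function.IsPeriodicPt, Function.IsFixedPt, h6, pow_card_eq_one', map_one, MulAut.one_apply]
  have h5 := h3.gcd h4
  rwa [((hp.out.coprime_iff_not_dvd.2 h.cop).pow_left k).gcd_eq_one] at h5

theorem cube (hm : ¬ IsMetacyclic S) (hrk : PRankLE p 2 S) (hG : Nat.card S = p ^ 3) :
    ¬ IsMulCommutative S ∧ ∀ y : S, y ^ p = 1 := by
  have hP := IsPGroup.of_card hG
  have h1 : ∀ y : S, y ^ p = 1 := fun y => by
    by_contra hy
    obtain ⟨k, hk⟩ := hP.index (zpowers y)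
    obtain ⟨l, hl⟩ := (hP.to_subgroup (zpowers y)).exists_card_eq
    have h2 := (zpowers y).card_mul_index
    rw [hk, hl, hG, ← pow_add] at h2
    have h3 := Nat.pow_right_injective hp.out.two_le h2
    have h4 : 2 ≤ l := by
      by_contra h5
      exact hy (orderOf_dvd_iff_pow_eq_one.1 (by
        rw [← Nat.card_zpowers, hl]
        simpa using pow_dvd_pow p (show l ≤ 1 by omega)))
    have h5 : (zpowers y).index ∣ p := by
      rw [hk]; simpa using pow_dvd_pow p (show k ≤ 1 by omega)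
    have := normal_of_index_le_prime hP (Nat.le_of_dvd hp.out.pos h5)
    exact hm ⟨zpowers y, this, inferInstance, isCyclic_of_card_dvd_prime h5⟩
  refine ⟨fun hc => ?_, h1⟩
  have := hrk ⊤ inferInstance fun a _ => h1 a
  rw [card_top, hG, Nat.pow_le_pow_iff_right hp.out.one_lt] at this
  omega

theorem Act.ab_false (h : Act p ρ x) {V Z : Subgroup S} {d : S} {a : ℕ}
    (hV : RankTwoAb p V Z (centralizer V) d (a + 1)) (hD : (centralizer (V : Set S)).index = p)
    (hpow : ∀ u : S, u ^ p ∈ zpowers (d ^ p)) {Y : Subgroup S} [Y.Normal] (hY : L S (p - 1) ≤ Y) :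
    d ^ p ∈ Y := by
  have hxZ : x ∈ Z := by
    obtain ⟨t, -, ht⟩ := SetLike.exists_of_lt (lt_top_iff_ne_top.2 fun e :
      centralizer (V : Set S) = ⊤ => hp.out.ne_one (by rw [← hD, e, index_top]))
    obtain ⟨y, hy, hyt⟩ : ∃ y ∈ V, ¬ Commute y t := by
      by_contra h5
      push Not at h5
      exact ht h5
    exact hV.mem_Z_of_commute hy hyt (ab_L1 hV hD (h.fp fun e => by rw [h.fix]))
      (mem_center_iff.1 h.cen t).symm
  have hx : x ∈ zpowers (d ^ p) := by
    obtain ⟨i, hi⟩ := hV.exists_pow_eq hxZ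
    rw [← hi, pow_succ', pow_mul]
    exact pow_mem (pow_mem (mem_zpowers _) _) i
  have hfix : ∀ e u, ρ e (u ^ p) = u ^ p := fun e u => by
    obtain ⟨i, hi⟩ := mem_zpowers_iff.1 (hpow u)
    rw [← hi, map_zpow, h.cyc hx e (by rw [map_pow]; exact hpow _)]
  have hmul : ∀ u v : S, ((u * v : S) : S ⧸ Y) ^ p = (u : S ⧸ Y) ^ p * (v : S ⧸ Y) ^ p := fun u v =>
    QuotientGroup.eq.2 (hp_mem hp.out (m := 1) (comm_mem_L (mem_top u) v)
      (fun c hc => by rw [hV.pow_eq_one c (ab_L1 hV hD hc)]; exact one_mem _)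
      (by rwa [show 1 + p - 2 = p - 1 by omega]))
  let φ : S →* S ⧸ Y := MonoidHom.mk' (fun u => (u : S ⧸ Y) ^ p) hmul
  have := (h.gen φ.ker fun e u => by
    rw [MonoidHom.mem_ker, map_mul, map_inv, mul_inv_eq_one]
    show ((ρ e u ^ p : S) : S ⧸ Y) = (u ^ p : S)
    rw [← map_pow, hfix]).ge (mem_top d)
  exact (QuotientGroup.eq_one_iff _).1 this

theorem eq_or_eq_inv {Q : Type*} [Group Q] {v w : Q} (hw : w ^ 3 = 1) (hv : v ∈ zpowers w)
    (h1 : v ≠ 1) : v = w ∨ v = w⁻¹ := by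
  obtain ⟨k, rfl⟩ := mem_zpowers_iff.1 hv
  have h3 : w ^ (3 : ℤ) = 1 := by exact_mod_cast hw
  have h4 : w ^ k = w ^ (k % 3) := by
    conv_lhs => rw [← Int.mul_ediv_add_emod k 3, zpow_add, zpow_mul, h3, one_zpow, one_mul]
  rw [h4] at h1 ⊢
  obtain e | e | e : k % 3 = 0 ∨ k % 3 = 1 ∨ k % 3 = 2 := by omega
  · simp [e] at h1
  · simp [e]
  · rw [e]
    exact Or.inr (eq_inv_of_mul_eq_one_left (by rw [← zpow_add_one]; exact h3))

theorem Act.exists_inv [Fact (Nat.Prime 3)] (h : Act 3 ρ x) {n : ℕ} (hM : MC S 3 n) (hn : 4 ≤ n) :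
    ∃ e, ∀ c, Abelianization.of (ρ e c) = (Abelianization.of c)⁻¹ := by
  obtain ⟨y, hy, hy'⟩ := hM.exists_mem_K (i := 1) le_rfl
  have hK := hM.K_ne_top (i := 1) hn
  obtain ⟨s, -, hs⟩ := SetLike.exists_of_lt hK.lt_top
  have : (K S 1).Normal := Normal.of_commutator_le _ (L_le_K 1)
  have hσ : ∀ (σ : MulAut S) u, u ∈ K S 1 → σ u ∈ K S 1 := fun σ u hu => mem_K.2 fun g hg => by
    have := map_mem_L σ.toMonoidHom (mem_K.1 hu _ (map_mem_L σ.symm.toMonoidHom hg))
    simpa [map_commutatorElement] using this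
  have h3 : ∀ u : S, Abelianization.of u ^ 3 = 1 := fun u => by
    rw [← map_pow]; exact of_eq_one.2 (hM.pow_mem_one u)
  have hKy : ∀ u ∈ K S 1, Abelianization.of u ∈ zpowers (Abelianization.of y) := fun u hu =>
    hM.le_of_between (D := (zpowers (Abelianization.of y)).comap Abelianization.of)
      (fun g hg => by rw [mem_comap, of_eq_one.2 hg]; exact one_mem _)
      (mem_zpowers _) hy' (M := K S 1) (fun g hg => by
        obtain ⟨k, hk⟩ := mem_zpowers_iff.1 hg
        rw [← map_zpow, of_eq_iff] at hk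
        simpa using mul_mem (zpow_mem hy k) (L_le_K 1 hk)) hK hu
  have htop : ∀ H : Subgroup S, K S 1 ≤ H → s ∈ H → H = ⊤ := fun H h1 h2 => by
    by_contra h4
    exact hs (hM.le_of_between (L_le_K 1) hy hy' h1 h4 h2)
  let π := QuotientGroup.mk' (K S 1)
  have π1 : ∀ u, π u = 1 ↔ u ∈ K S 1 := fun u => QuotientGroup.eq_one_iff u
  have πeq : ∀ e a b, π a = π b → π (ρ e a) = π (ρ e b) := fun e a b hab =>
    QuotientGroup.eq.2 (by rw [← map_inv, ← map_mul]; exact hσ _ _ (QuotientGroup.eq.1 hab))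
  have ofeq : ∀ e a b, Abelianization.of a = Abelianization.of b →
      Abelianization.of (ρ e a) = Abelianization.of (ρ e b) := fun e a b hab =>
    of_eq_iff.2 (by rw [← map_inv, ← map_mul]; exact map_mem_L (ρ e).toMonoidHom (of_eq_iff.1 hab))
  have ha : ∀ e, Abelianization.of (ρ e y) = Abelianization.of y ∨
      Abelianization.of (ρ e y) = (Abelianization.of y)⁻¹ := fun e =>
    eq_or_eq_inv (h3 y) (hKy _ (hσ _ _ hy)) fun e1 => hy' (by
      simpa using map_mem_L (ρ e).symm.toMonoidHom (of_eq_one.1 e1))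
  have hb : ∀ e, π (ρ e s) = π s ∨ π (ρ e s) = (π s)⁻¹ := fun e =>
    eq_or_eq_inv (by rw [← map_pow]; exact (π1 _).2 (L_le_K 1 (hM.pow_mem_one s)))
      ((htop ((zpowers (π s)).comap π) (fun g hg => by
        rw [mem_comap, (π1 _).2 hg]; exact one_mem _) (mem_zpowers _)).ge
        (mem_top _)) fun e1 => hs (by simpa using hσ (ρ e).symm _ ((π1 _).1 e1))
  obtain ⟨e1, h1⟩ : ∃ e, Abelianization.of (ρ e y) = (Abelianization.of y)⁻¹ := by
    by_contra h4
    push Not at h4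
    exact hy' (h.fp fun e => (ha e).resolve_right (h4 e))
  obtain ⟨e2, h2⟩ : ∃ e, π (ρ e s) = (π s)⁻¹ := by
    by_contra h4
    push Not at h4
    refine hK (h.gen _ fun e u => (π1 _).1 ?_)
    have : π (ρ e u) = π u := (htop ((π.comp (ρ e).toMonoidHom).eqLocus π) (fun g hg =>
      ((π1 _).2 (hσ _ _ hg)).trans ((π1 _).2 hg).symm)
      ((hb e).resolve_right (h4 e))).ge (mem_top u)
    rw [map_mul, map_inv, this, mul_inv_cancel]
  obtain ⟨e, k1, k2⟩ : ∃ e, Abelianization.of (ρ e y) = (Abelianization.of y)⁻¹ ∧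
      π (ρ e s) = (π s)⁻¹ := by
    rcases hb e1 with h4 | h4
    · rcases ha e2 with h5 | h5
      · refine ⟨e1 * e2, ?_, ?_⟩
        · rw [map_mul, MulAut.mul_apply, ofeq e1 _ _ h5, h1]
        · rw [map_mul, MulAut.mul_apply, πeq e1 _ s⁻¹ h2, map_inv, map_inv, h4]
      · exact ⟨e2, h5, h2⟩
    · exact ⟨e1, h1, h4⟩
  have k3 : ∀ u ∈ K S 1, Abelianization.of (ρ e u) = (Abelianization.of u)⁻¹ := fun u hu => by
    obtain ⟨k, hk⟩ := mem_zpowers_iff.1 (hKy u hu)
    rw [← hk, ← ofeq e (y ^ k) u (by rw [map_zpow, hk]), map_zpow, map_zpow, k1, inv_zpow]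
  obtain ⟨m, hm, k4⟩ : ∃ m ∈ K S 1, ρ e s = s⁻¹ * m :=
    ⟨_, by simpa using QuotientGroup.eq.1 k2.symm, (inv_mul_cancel_left s _).symm⟩
  refine ⟨e * e * e, fun c => (htop ((Abelianization.of.comp (ρ (e * e * e)).toMonoidHom).eqLocus
    (invMonoidHom.comp Abelianization.of)) (fun g hg => ?_) ?_).ge (mem_top c)⟩
  · show Abelianization.of (ρ (e * e * e) g) = (Abelianization.of g)⁻¹
    simp only [map_mul, MulAut.mul_apply]
    rw [k3 _ (hσ _ _ (hσ _ _ hg)), k3 _ (hσ _ _ hg), k3 _ hg, inv_inv]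
  · show Abelianization.of (ρ (e * e * e) s) = (Abelianization.of s)⁻¹
    simp only [map_mul, MulAut.mul_apply, k4, map_inv, k3 _ (hσ _ _ hm), k3 _ hm, mul_inv_rev, inv_inv]
    refine Eq.trans ?_ ((congrArg _ (h3 m)).trans (mul_one _))
    simp only [pow_succ, pow_zero, one_mul]
    ac_rfl

theorem Act.odd [Fact (Nat.Prime 3)] (h : Act 3 ρ x) {n : ℕ} (hM : MC S 3 n) (hn : 4 ≤ n) :
    Odd n := by
  obtain ⟨e, he⟩ := h.exists_inv hM hn
  have h1 : ∀ c, (c ^ 2)⁻¹ * ρ e c ∈ L S 1 := fun c => of_eq_iff.1 (by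
    rw [he, eq_inv_iff_mul_eq_one, ← map_mul, ← pow_succ]
    exact of_eq_one.2 (hM.pow_mem_one c))
  have step : ∀ i g s, g ∈ L S i → (g ^ 2 ^ (i + 1))⁻¹ * ρ e g ∈ L S (i + 1) →
      (⁅g, s⁆ ^ 2 ^ (i + 2))⁻¹ * ρ e ⁅g, s⁆ ∈ L S (i + 2) := fun i g s hg h2 => by
    have h3 := mul_mem (comm_congr hg h2 s 2) ((inferInstance : (L S (i + 2)).Normal).conj_mem _
      (comm_mem_L₂ (map_mem_L (ρ e).toMonoidHom hg) (h1 s)) (s ^ 2))
    convert h3 using 1
    rw [map_commutatorElement, ← pow_succ]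
    simp only [commutatorElement_def, MulEquiv.toMonoidHom_eq_coe, MonoidHom.coe_coe]
    group
  have main : ∀ i, i + 3 ≤ n → ∃ g ∈ L S (i + 1), g ∉ L S (i + 2) ∧
      (g ^ 2 ^ (i + 2))⁻¹ * ρ e g ∈ L S (i + 2) := by
    intro i
    induction i with
    | zero =>
      intro _
      obtain ⟨y, hy, hy'⟩ := hM.exists_mem_K (i := 1) le_rfl
      obtain ⟨s, -, hs⟩ := SetLike.exists_of_lt (hM.K_ne_top (i := 1) hn).lt_top
      exact ⟨_, comm_mem_L (mem_top y) s, hM.comm_not_mem_two (L_le_K 1) hy hy' hs,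
        step 0 y s (mem_top y) (h1 y)⟩
    | succ i ih =>
      intro hi
      obtain ⟨g, g1, g2, g3⟩ := ih (by omega)
      obtain ⟨s, -, hs⟩ := SetLike.exists_of_lt (hM.K_ne_top (i := i + 1) hi).lt_top
      exact ⟨_, comm_mem_L g1 s, hM.comm_not_mem (by omega) hs g1 g2, step _ g s g1 g3⟩
  obtain ⟨m, rfl⟩ : ∃ m, n = m + 3 := ⟨n - 3, by omega⟩
  obtain ⟨g, g1, g2, g3⟩ := main m le_rfl
  rw [hM.L_eq_bot (i := m + 2) (by omega), mem_bot] at g2 g3
  have := CfsgLib.Core.normal_of_le_center (zpowers_le.2 h.cen)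
  have h2 : zpowers x = L S (m + 1) := eq_lowerCentralSeries_of_maximal_class hM.card hM.cls _
    (r := m + 2) (by omega) (by
      have h4 := (zpowers x).card_mul_index
      rw [Nat.card_zpowers, orderOf_eq_prime h.pow h.ne, hM.card, pow_succ'] at h4
      omega)
  obtain ⟨k, rfl⟩ := mem_zpowers_iff.1 (h2 ▸ g1)
  rw [map_zpow, h.fix, inv_mul_eq_one, ← pow_one (x ^ k), ← pow_mul, one_mul, pow_eq_pow_iff_modEq,
    orderOf_eq_prime (p := 3) (by rw [← zpow_natCast, ← zpow_mul, mul_comm, zpow_mul, zpow_natCast,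
      h.pow, one_zpow]) g2] at g3
  rcases Nat.even_or_odd' m with ⟨j, rfl | rfl⟩
  · exact ⟨j + 1, by omega⟩
  · rw [show 2 * j + 1 + 2 = 2 * (j + 1) + 1 by omega, pow_succ, pow_mul] at g3
    have := ((Nat.ModEq.pow (j + 1) (show 2 ^ 2 ≡ 1 [MOD 3] by decide)).mul_right 2).symm.trans g3
    rw [one_pow] at this
    exact absurd this (by decide)

theorem Act.concl (h : Act p ρ x) (h2 : p ≠ 2) (hrk : PRankLE p 2 S) (hm : ¬ IsMetacyclic S) :
    (IsExtraspecial p S ∧ Nat.card S = p ^ 3 ∧ ∀ y : S, y ^ p = 1) ∨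
      (p = 3 ∧ ∃ k, 2 ≤ k ∧ Nat.card S = 3 ^ (2 * k + 1) ∧ Group.nilpotencyClass S = 2 * k) := by
  obtain ⟨n, hG⟩ := h.pg.exists_card_eq
  by_cases h3 : n = 3
  · subst h3
    exact Or.inl ⟨isExtraspecial_of_card_eq_cube hG (cube hm hrk hG).1, hG, (cube hm hrk hG).2⟩
  suffices p = 3 ∧ MC S p n from by
    obtain ⟨rfl, hM⟩ := this
    have := hM.three
    obtain ⟨k, rfl⟩ := h.odd hM (by omega)
    exact Or.inr ⟨rfl, k, by omega, hG, hM.cls⟩
  rcases trichotomy h2 hG hrk with h4 | ⟨V, Z, d, a, hV, hD, rfl, hpow⟩ | h4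
  · exact absurd h4 hm
  · obtain ⟨a, rfl⟩ : ∃ b, a = b + 1 := ⟨a - 1, by omega⟩
    have h5 : L S (p - 1) ≠ ⊥ := fun e => hV.ne_one (by
      rw [pow_succ', pow_mul, mem_bot.1 (h.ab_false hV hD hpow e.le), one_pow])
    have h6 : L S 3 = ⊥ := eq_bot_iff.2 (commutator_le.2 fun g hg s _ =>
      commutatorElement_eq_one_iff_commute.2 (hV.commZ (ab_L2 hV hD hg) s))
    obtain rfl : p = 3 := by
      by_contra h7
      have := hp.out.two_le
      have : p ≠ 4 := fun e => absurd (e ▸ hp.out) (by decide)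
      exact h5 (eq_bot_iff.2 (h6 ▸ L_anti (by omega)))
    have := CfsgLib.Core.normal_of_le_center hV.center
    have h7 := hV.pow_eq_one _ (hV.ZV (h.ab_false hV hD hpow (ab_L2 hV hD)))
    rw [← pow_mul, ← orderOf_dvd_iff_pow_eq_one, hV.order, ← sq,
      Nat.pow_dvd_pow_iff_le_right (by decide)] at h7
    obtain rfl : a = 0 := by omega
    have := h.pg.isNilpotent
    refine ⟨rfl, by omega, hG,
      le_antisymm (Subgroup.lowerCentralSeries_eq_bot_iff_nilpotencyClass_le.1 h6) ?_⟩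
    by_contra h8
    exact h5 (Subgroup.lowerCentralSeries_eq_bot_iff_nilpotencyClass_le.2 (by omega))
  · exact h4

/-- Sylow subgroups of rank two of a perfect group whose normalizer centralizes an element -/
theorem sylow_of_perfect {G : Type u} [Group G] [Finite G] (h2 : p ≠ 2) (hG : commutator G = ⊤)
    (P : Sylow p G) (hrk : PRankLE p 2 P) {x : G} (hx : x ∈ (P : Subgroup G)) (hx1 : x ≠ 1)
    (hxp : x ^ p = 1) (hN : normalizer ((P : Subgroup G) : Set G) ≤ centralizer {x}) :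
    (IsExtraspecial p P ∧ Nat.card P = p ^ 3 ∧ ∀ y : P, y ^ p = 1) ∨
      (p = 3 ∧ ∃ k, 2 ≤ k ∧ Nat.card P = 3 ^ (2 * k + 1) ∧ Group.nilpotencyClass P = 2 * k) := by
  have h1 := transfer_control h2 P hrk
  rw [hG, inf_top_eq, left_eq_inf] at h1
  set N := normalizer ((P : Subgroup G) : Set G)
  have hcop : (Nat.card ((P : Subgroup G).subgroupOf N)).Coprime
      ((P : Subgroup G).subgroupOf N).index := (P.subtype le_normalizer).card_coprime_index
  obtain ⟨E, hE⟩ := exists_right_complement'_of_coprime hcop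
  have hEp : ¬ p ∣ Nat.card E := by
    rw [← hE.symm.index_eq_card]; exact (P.subtype le_normalizer).not_dvd_index
  let ρ : E →* MulAut P := (P : Subgroup G).normalizerMonoidHom.comp E.subtype
  have hA : Act p ρ ⟨x, hx⟩ := by
    refine ⟨P.isPGroup', hEp, fun K hK => eq_top_of_sup_commutator_eq_top P.isPGroup'
      (eq_top_iff.2 fun u _ => ?_), fun e => hx1 (congrArg Subtype.val e), Subtype.ext hxp,
      mem_center_iff.2 fun g => Subtype.ext (mem_centralizer_singleton_iff.1 (hN (le_normalizer g.2))),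
      fun e => Subtype.ext ?_⟩
    · have : (K ⊔ commutator P).Normal := Normal.of_commutator_le _ le_sup_right
      have h3 : (⟨u, le_normalizer u.2⟩ : N) ∈ ((P : Subgroup G).subgroupOf N).focalSubgroup := by
        rw [Transfer.focalSubgroup_eq_of_hall _ hcop]
        refine ⟨?_, u.2⟩
        have := h1 u.2
        rw [← map_subtype_commutator] at this
        obtain ⟨v, hv, e⟩ := this
        exact (Subtype.ext e : v = ⟨u, le_normalizer u.2⟩) ▸ hv
      obtain ⟨v, hv, e⟩ := (Transfer.focalSubgroup_le_iff (K := ((K ⊔ commutator P).map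
        (P : Subgroup G).subtype).subgroupOf N)).2 (fun a ha g _ => by
          obtain ⟨⟨s, e⟩, rfl⟩ := hE.2 g
          let a' : P := ⟨a, ha⟩
          let s' : P := ⟨s.1, s.2⟩
          refine ⟨⁅a'⁻¹, s'⁆ * (s' * (a'⁻¹ * (ρ e a' * a'⁻¹) * a'⁻¹⁻¹) * s'⁻¹), mul_mem
            (mem_sup_right (commutator_mem_commutator (mem_top _) (mem_top _)))
            (this.conj_mem _ (this.conj_mem _ (mem_sup_left (hK e a')) _) _), ?_⟩
          show (a : G)⁻¹ * s.1 * (a : G)⁻¹⁻¹ * (s.1 : G)⁻¹ * (s.1 * ((a : G)⁻¹ *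
            (e.1 * a * (e.1 : G)⁻¹ * (a : G)⁻¹) * (a : G)⁻¹⁻¹) * (s.1 : G)⁻¹) =
            (a : G)⁻¹ * (s.1 * e.1 * a * ((s.1 : G) * e.1)⁻¹)
          group) h3
      exact (Subtype.ext e : v = u) ▸ hv
    · show (e : G) * x * (e : G)⁻¹ = x
      rw [mem_centralizer_singleton_iff.1 (hN (e : N).2), mul_inv_cancel_right]
  refine hA.concl h2 hrk fun hm => hx1 ?_
  obtain ⟨-, -, h4, -⟩ := Cfsg.Agent.S1447.result p h2 P (E.map N.subtype) P.isPGroup' hm
    (map_subtype_le _) (by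
      rw [card_map_of_injective N.subtype_injective]
      exact (hp.out.coprime_iff_not_dvd.2 hEp).symm)
  refine mem_bot.1 (h4.le ⟨(hA.gen (⁅(P : Subgroup G), E.map N.subtype⁆.subgroupOf P)
    fun e u => ?_).ge (mem_top ⟨x, hx⟩), hx, ?_⟩)
  · rw [mem_subgroupOf, commutator_comm]
    exact commutator_mem_commutator ⟨e, e.2, rfl⟩ u.2
  · rintro _ ⟨e, -, rfl⟩
    exact mem_centralizer_singleton_iff.1 (hN e.2)

end CfsgLib.Rk2
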